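import Cfsg.Agent.H720.RowsNeg
import Cfsg.Agent.H720.TwFr
import Cfsg.Agent.S1092
import Cfsg.Agent.S1093

/-!
# Elements of the Weyl groups for the frames (helper900)

* `neg_F4`, `neg_E7`, `neg_E8`, `negRho_E6` : `-1`, resp. `- rho6`, in the Weyl group;
* `card_M_F4` ... : the orders;
* `nine_E6` : a subgroup of order 9 of `W(E₆)` commuting with `rho6`;
* `sqrt_E8` : `w₀ ∈ W(E₈)` with `w₀² = -1`, commuting with an element of order 5, and the functionals for `T^τ`.
-/

set_option autoImplicit false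
set_option linter.dupNamespace false
set_option linter.unusedSectionVars false

namespace Cfsg.Agent.H900.Fra

open CoxeterSystem Cfsg Cfsg.Lie Cfsg.Lie.ChevalleyDatum
open Cfsg.Agent.ChevalleyStructure Cfsg.Agent.ChevalleyStructure.Elts Cfsg.Agent.ChevalleyStructure.CoxeterGeom
  Cfsg.Agent.ChevalleyStructure.CoxeterGeomTypes Cfsg.Agent.ChevalleyStructure.NPerm
open Cfsg.Agent.Tits.Roots Cfsg.Agent.Tits.Core Cfsg.Agent.Nodes Cfsg.Agent.Nodes.Reps Cfsg.Agent.Nodes.BNOf
  Cfsg.Agent.Nodes.RGDChev Cfsg.Agent.Nodes.Bruhat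
open Cfsg.Agent.H130.WeylCk Cfsg.Agent.H130.WeylTab Cfsg.Agent.H720.RowsNeg Cfsg.Agent.H720.TwFr

/-! ### the orders -/

theorem eq_F4 {M : CoxeterMatrix (Fin 4)} (hp : IsType chevF4 4 M) : M = CoxeterMatrix.F₄ := by
  simp only [IsType, typeList, List.mem_cons, List.not_mem_nil, or_false, Prod.mk.injEq] at hp
  rcases hp with ⟨h1, h⟩ | ⟨h1, h⟩ | ⟨h1, h⟩ | ⟨h1, h⟩ | ⟨h1, h⟩ | ⟨h1, h⟩ | ⟨h1, h⟩
  · exact absurd (congrArg Sigma.fst h) (by simp)
  · exact absurd (congrArg Sigma.fst h) (by simp)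
  · exact absurd (congrArg ChevalleyDatum.nroots h1) (by decide +kernel)
  · simpa using h
  · exact absurd (congrArg Sigma.fst h) (by simp)
  · exact absurd (congrArg Sigma.fst h) (by simp)
  · exact absurd (congrArg Sigma.fst h) (by simp)

theorem eq_E6 {M : CoxeterMatrix (Fin 6)} (hp : IsType chevE6 6 M) : M = CoxeterMatrix.E₆ := by
  simp only [IsType, typeList, List.mem_cons, List.not_mem_nil, or_false, Prod.mk.injEq] at hp
  rcases hp with ⟨h1, h⟩ | ⟨h1, h⟩ | ⟨h1, h⟩ | ⟨h1, h⟩ | ⟨h1, h⟩ | ⟨h1, h⟩ | ⟨h1, h⟩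
  · exact absurd (congrArg Sigma.fst h) (by simp)
  · exact absurd (congrArg Sigma.fst h) (by simp)
  · exact absurd (congrArg Sigma.fst h) (by simp)
  · exact absurd (congrArg Sigma.fst h) (by simp)
  · simpa using h
  · exact absurd (congrArg Sigma.fst h) (by simp)
  · exact absurd (congrArg Sigma.fst h) (by simp)

theorem eq_E7 {M : CoxeterMatrix (Fin 7)} (hp : IsType chevE7 7 M) : M = CoxeterMatrix.E₇ := by
  simp only [IsType, typeList, List.mem_cons, List.not_mem_nil, or_false, Prod.mk.injEq] at hp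
  rcases hp with ⟨h1, h⟩ | ⟨h1, h⟩ | ⟨h1, h⟩ | ⟨h1, h⟩ | ⟨h1, h⟩ | ⟨h1, h⟩ | ⟨h1, h⟩
  · exact absurd (congrArg Sigma.fst h) (by simp)
  · exact absurd (congrArg Sigma.fst h) (by simp)
  · exact absurd (congrArg Sigma.fst h) (by simp)
  · exact absurd (congrArg Sigma.fst h) (by simp)
  · exact absurd (congrArg Sigma.fst h) (by simp)
  · simpa using h
  · exact absurd (congrArg Sigma.fst h) (by simp)

theorem eq_E8 {M : CoxeterMatrix (Fin 8)} (hp : IsType chevE8 8 M) : M = CoxeterMatrix.E₈ := by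
  simp only [IsType, typeList, List.mem_cons, List.not_mem_nil, or_false, Prod.mk.injEq] at hp
  rcases hp with ⟨h1, h⟩ | ⟨h1, h⟩ | ⟨h1, h⟩ | ⟨h1, h⟩ | ⟨h1, h⟩ | ⟨h1, h⟩ | ⟨h1, h⟩
  · exact absurd (congrArg Sigma.fst h) (by simp)
  · exact absurd (congrArg Sigma.fst h) (by simp)
  · exact absurd (congrArg Sigma.fst h) (by simp)
  · exact absurd (congrArg Sigma.fst h) (by simp)
  · exact absurd (congrArg Sigma.fst h) (by simp)
  · exact absurd (congrArg Sigma.fst h) (by simp)
  · simpa using h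

theorem card_M_F4 {M : CoxeterMatrix (Fin 4)} (hp : IsType chevF4 4 M) : Nat.card M.Group = 1152 := by
  rw [eq_F4 hp]
  exact S1092.result (⟨4, CoxeterMatrix.F₄⟩, 1152) (by simp)

theorem card_M_E6 {M : CoxeterMatrix (Fin 6)} (hp : IsType chevE6 6 M) : Nat.card M.Group = 51840 := by
  rw [eq_E6 hp]
  exact S1093.result (⟨6, CoxeterMatrix.E₆⟩, 51840) (by simp)

theorem card_M_E7 {M : CoxeterMatrix (Fin 7)} (hp : IsType chevE7 7 M) : Nat.card M.Group = 2903040 := by
  rw [eq_E7 hp]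
  exact S1093.result (⟨7, CoxeterMatrix.E₇⟩, 2903040) (by simp)

theorem card_M_E8 {M : CoxeterMatrix (Fin 8)} (hp : IsType chevE8 8 M) : Nat.card M.Group = 696729600 := by
  rw [eq_E8 hp]
  exact S1093.result (⟨8, CoxeterMatrix.E₈⟩, 696729600) (by simp)

/-! ### `-1` -/

theorem neg_F4 {M : CoxeterMatrix (Fin 4)} (hp : IsType chevF4 4 M) :
    ∃ w : M.Group, ∀ x, rep M.toCoxeterSystem hp.isCartan w x = -x :=
  exists_neg lists_F4 M.toCoxeterSystem hp.isCartan [0, 1, 2, 3] 6 (by decide +kernel)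

theorem neg_E7 {M : CoxeterMatrix (Fin 7)} (hp : IsType chevE7 7 M) :
    ∃ w : M.Group, ∀ x, rep M.toCoxeterSystem hp.isCartan w x = -x :=
  exists_neg lists_E7 M.toCoxeterSystem hp.isCartan [0, 1, 2, 3, 4, 5, 6] 9 (by decide +kernel)

theorem neg_E8 {M : CoxeterMatrix (Fin 8)} (hp : IsType chevE8 8 M) :
    ∃ w : M.Group, ∀ x, rep M.toCoxeterSystem hp.isCartan w x = -x :=
  exists_neg lists_E8 M.toCoxeterSystem hp.isCartan [0, 1, 2, 3, 4, 5, 6, 7] 15 (by decide +kernel)

/-! ### linear algebra -/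

/-- additive maps agreeing on the basis -/
theorem add_ext {l : ℕ} {B : Type*} [AddCommGroup B] {f g : (Fin l → ℤ) →+ B} (h : ∀ i, f (sr i) = g (sr i))
    (x : Fin l → ℤ) : f x = g x := by
  rw [H129.TorusChar.IsMC.eq_sum_sr x, map_sum, map_sum]
  refine Finset.sum_congr rfl fun i _ => ?_
  rw [map_zsmul, map_zsmul, h i]

/-- the functional with coefficients `c` -/
def lin {l : ℕ} (c : Fin l → ℤ) : (Fin l → ℤ) →+ ℤ where
  toFun x := ∑ j, c j * x j
  map_zero' := by simp
  map_add' x y := by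
    rw [← Finset.sum_add_distrib]
    refine Finset.sum_congr rfl fun j _ => ?_
    rw [Pi.add_apply, mul_add]

theorem lin_apply {l : ℕ} (c x : Fin l → ℤ) : lin c x = ∑ j, c j * x j := rfl

theorem sr_eq_toFn {l : ℕ} (i : Fin l) : (sr i : Fin l → ℤ) = toFn l (bas l i) := (toFn_bas i).symm

/-! ### `E₆` -/

section E6

variable {M : CoxeterMatrix (Fin 6)} (hp : IsType chevE6 6 M)

theorem perm_sr (i : Fin 6) : permE rho6 (sr i) = sr (rho6 i) := by
  have h : ∀ i j : Fin 6, permE rho6 (toFn 6 (bas 6 i)) j = toFn 6 (bas 6 (rho6 i)) j := by decide +kernel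
  rw [sr_eq_toFn, sr_eq_toFn]
  exact funext (h i)

theorem negRho_E6 : ∃ w : M.Group, ∀ x, rep M.toCoxeterSystem hp.isCartan w x = -(permE rho6 x) := by
  obtain ⟨w, hw⟩ : ∃ w, w = M.toCoxeterSystem.wordProd [0, 3, 5, 1, 2, 4] ^ 6 := ⟨_, rfl⟩
  refine ⟨w, fun x => ?_⟩
  refine add_ext (f := (rep M.toCoxeterSystem hp.isCartan w).toAddMonoidHom) (g := -(permE rho6).toAddMonoidHom)
    (fun i => ?_) x
  show rep M.toCoxeterSystem hp.isCartan w (sr i) = -(permE rho6 (sr i))
  rw [hw, rep_word lists_E6 M.toCoxeterSystem hp.isCartan [0, 3, 5, 1, 2, 4] 6 i, perm_sr, sr_eq_toFn]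
  have h : ∀ i j : Fin 6, toFn 6 (acn alE6 ([0, 3, 5, 1, 2, 4] : List (Fin 6)) 6 (bas 6 i)) j = -(toFn 6 (bas 6 (rho6 i)) j) := by
    decide +kernel
  exact funext (h i)

/-- a word commuting with `rho6` -/
theorem comm_rho (L : List (Fin 6)) (n : ℕ)
    (h : ∀ i j : Fin 6, toFn 6 (acn alE6 L n (bas 6 (rho6 i))) j = toFn 6 (acn alE6 L n (bas 6 i)) (rho6.symm j))
    (x : Fin 6 → ℤ) : rep M.toCoxeterSystem hp.isCartan (M.toCoxeterSystem.wordProd L ^ n) (permE rho6 x) =
      permE rho6 (rep M.toCoxeterSystem hp.isCartan (M.toCoxeterSystem.wordProd L ^ n) x) := by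
  refine add_ext (f := (rep M.toCoxeterSystem hp.isCartan
    (M.toCoxeterSystem.wordProd L ^ n)).toAddMonoidHom.comp (permE rho6).toAddMonoidHom)
    (g := (permE rho6).toAddMonoidHom.comp (rep M.toCoxeterSystem hp.isCartan
    (M.toCoxeterSystem.wordProd L ^ n)).toAddMonoidHom) (fun i => ?_) x
  show rep M.toCoxeterSystem hp.isCartan (M.toCoxeterSystem.wordProd L ^ n) (permE rho6 (sr i)) =
      permE rho6 (rep M.toCoxeterSystem hp.isCartan (M.toCoxeterSystem.wordProd L ^ n) (sr i))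
  rw [perm_sr, rep_word lists_E6 M.toCoxeterSystem hp.isCartan L n, rep_word lists_E6 M.toCoxeterSystem hp.isCartan L n]
  exact funext (h i)

/-- two words are equal -/
theorem word_eq {l : ℕ} {A : Fin l → Fin l → ℤ} {Al : List (List ℤ)} (hA : MatList A Al) {M : CoxeterMatrix (Fin l)}
    {W : Type*} [Group W] (cs : CoxeterSystem M W) (h : IsCartan M A) (L L' : List (Fin l)) (n n' : ℕ)
    (hck : ∀ i : Fin l, acn Al L n (bas l i) = acn Al L' n' (bas l i)) : cs.wordProd L ^ n = cs.wordProd L' ^ n' := by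
  apply rep_injective cs h
  apply LinearMap.ext
  intro x
  refine eq_of_sr (fun i => ?_) x
  rw [rep_word hA cs h L n i, rep_word hA cs h L' n' i, hck i]

theorem word_ne {l : ℕ} {A : Fin l → Fin l → ℤ} {Al : List (List ℤ)} (hA : MatList A Al) {M : CoxeterMatrix (Fin l)}
    {W : Type*} [Group W] (cs : CoxeterSystem M W) (h : IsCartan M A) (L L' : List (Fin l)) (n n' : ℕ) (i j : Fin l)
    (hck : toFn l (acn Al L n (bas l i)) j ≠ toFn l (acn Al L' n' (bas l i)) j) :
    cs.wordProd L ^ n ≠ cs.wordProd L' ^ n' := by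
  intro e
  apply hck
  rw [← rep_word hA cs h L n i, ← rep_word hA cs h L' n' i, e]

/-- the first word -/
def L1 : List (Fin 6) := [1, 3, 2, 4, 3, 1, 0, 5, 2, 4, 3, 1, 2, 4, 3, 0, 5, 2, 4, 3]
/-- the second word -/
def L2 : List (Fin 6) := [2, 4, 0, 5]

/-- **A subgroup of order 9 commuting with `rho6`.** -/
theorem nine_E6 : ∃ V : Subgroup M.Group, Nat.card V = 9 ∧ ∀ v ∈ V, ∀ x,
    rep M.toCoxeterSystem hp.isCartan v (permE rho6 x) = permE rho6 (rep M.toCoxeterSystem hp.isCartan v x) := by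
  classical
  set cs := M.toCoxeterSystem
  set a := cs.wordProd L1 with ha
  set b := cs.wordProd L2 with hb
  have ha3 : a ^ 3 = 1 := by
    have := word_eq lists_E6 cs hp.isCartan L1 [] 3 1 (by decide +kernel)
    rwa [cs.wordProd_nil, one_pow] at this
  have hb3 : b ^ 3 = 1 := by
    have := word_eq lists_E6 cs hp.isCartan L2 [] 3 1 (by decide +kernel)
    rwa [cs.wordProd_nil, one_pow] at this
  have hab : a * b = b * a := by
    have := word_eq lists_E6 cs hp.isCartan (L1 ++ L2) (L2 ++ L1) 1 1 (by decide +kernel)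
    rwa [pow_one, pow_one, cs.wordProd_append, cs.wordProd_append] at this
  have ha1 : a ≠ 1 := by
    have := word_ne lists_E6 cs hp.isCartan L1 [] 1 1 1 0 (by decide +kernel)
    rwa [pow_one, pow_one, cs.wordProd_nil] at this
  have hb1 : b ≠ 1 := by
    have := word_ne lists_E6 cs hp.isCartan L2 [] 1 1 0 0 (by decide +kernel)
    rwa [pow_one, pow_one, cs.wordProd_nil] at this
  have hba : b ≠ a := by
    have := word_ne lists_E6 cs hp.isCartan L2 L1 1 1 0 0 (by decide +kernel)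
    rwa [pow_one, pow_one] at this
  have hba2 : b ≠ a ^ 2 := by
    have := word_ne lists_E6 cs hp.isCartan L2 L1 1 2 0 0 (by decide +kernel)
    rwa [pow_one] at this
  have : Fact (Nat.Prime 3) := ⟨Nat.prime_three⟩
  have hoa : orderOf a = 3 := orderOf_eq_prime ha3 ha1
  have hob : orderOf b = 3 := orderOf_eq_prime hb3 hb1
  have hca : Nat.card (Subgroup.zpowers a) = 3 := by rw [Nat.card_zpowers, hoa]
  have hcb : Nat.card (Subgroup.zpowers b) = 3 := by rw [Nat.card_zpowers, hob]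
  have hcomm : ∀ (x : ↥(Subgroup.zpowers a)) (y : ↥(Subgroup.zpowers b)),
      Commute ((Subgroup.zpowers a).subtype x) ((Subgroup.zpowers b).subtype y) := by
    rintro ⟨_, m, rfl⟩ ⟨_, n, rfl⟩
    exact ((show Commute a b from hab).zpow_zpow m n)
  have hbn : b ∉ Subgroup.zpowers a := by
    intro h
    have hfin : IsOfFinOrder a := isOfFinOrder_iff_pow_eq_one.2 ⟨3, by norm_num, ha3⟩
    obtain ⟨n, hn, e⟩ := (hfin.mem_zpowers_iff_mem_range_orderOf.1 h : _) |> Finset.mem_image.1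
    rw [hoa, Finset.mem_range] at hn
    interval_cases n
    · exact hb1 (by rw [← e, pow_zero])
    · exact hba (by rw [← e, pow_one])
    · exact hba2 e.symm
  have hdis : Disjoint (Subgroup.zpowers a) (Subgroup.zpowers b) := by
    rw [disjoint_iff, eq_bot_iff]
    have h1 : Nat.card ↥(Subgroup.zpowers a ⊓ Subgroup.zpowers b : Subgroup M.Group) ∣ 3 := by
      rw [← hcb]
      exact Subgroup.card_dvd_of_le inf_le_right
    rcases (Nat.dvd_prime Nat.prime_three).1 h1 with h2 | h2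
    · rw [Subgroup.card_eq_one] at h2
      exact h2.le
    · exfalso
      have hf : Finite ↥(Subgroup.zpowers b) := Nat.finite_of_card_ne_zero (by rw [hcb]; norm_num)
      have h3 : (Subgroup.zpowers a ⊓ Subgroup.zpowers b : Subgroup M.Group) = Subgroup.zpowers b :=
        Subgroup.eq_of_le_of_card_ge inf_le_right (by rw [h2, hcb])
      apply hbn
      have h4 : b ∈ (Subgroup.zpowers a ⊓ Subgroup.zpowers b : Subgroup M.Group) := by
        rw [h3]; exact Subgroup.mem_zpowers b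
      exact h4.1
  let φ := (Subgroup.zpowers a).subtype.noncommCoprod (Subgroup.zpowers b).subtype hcomm
  have hφ : Function.Injective φ := by
    refine (MonoidHom.noncommCoprod_injective _ _ _).2 ⟨Subgroup.subtype_injective _, Subgroup.subtype_injective _, ?_⟩
    rw [Subgroup.range_subtype, Subgroup.range_subtype]
    exact hdis
  refine ⟨φ.range, ?_, ?_⟩
  · rw [← Nat.card_congr (MonoidHom.ofInjective hφ).toEquiv, Nat.card_prod, hca, hcb]
  · -- the centraliser
    let C : Subgroup M.Group :=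
      { carrier := {v | ∀ x, rep cs hp.isCartan v (permE rho6 x) = permE rho6 (rep cs hp.isCartan v x)}
        one_mem' := fun x => by simp only [map_one, Module.End.one_apply]
        mul_mem' := by
          intro v w hv hw x
          rw [rep_mul_apply, hw, hv, ← rep_mul_apply]
        inv_mem' := by
          intro v hv x
          have h1 := hv (rep cs hp.isCartan v⁻¹ x)
          rw [← rep_mul_apply, mul_inv_cancel, map_one, Module.End.one_apply] at h1
          show rep cs hp.isCartan v⁻¹ (permE rho6 x) = permE rho6 (rep cs hp.isCartan v⁻¹ x)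
          rw [← h1, ← rep_mul_apply, inv_mul_cancel, map_one, Module.End.one_apply] }
    have haC : a ∈ C := by
      intro x
      have h1 := comm_rho hp L1 1 (by decide +kernel) x
      rwa [pow_one] at h1
    have hbC : b ∈ C := by
      intro x
      have h1 := comm_rho hp L2 1 (by decide +kernel) x
      rwa [pow_one] at h1
    rintro _ ⟨⟨x, y⟩, rfl⟩
    exact (C.mul_mem ((Subgroup.zpowers_le.2 haC) x.2) ((Subgroup.zpowers_le.2 hbC) y.2) : φ (x, y) ∈ C)

end E6

/-! ### `E₈` -/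

section E8

variable {M : CoxeterMatrix (Fin 8)} (hp : IsType chevE8 8 M)

/-- an element of order 20 -/
def L8 : List (Fin 8) := [3, 6, 5, 0, 7, 1, 2, 4, 0, 3, 4, 2, 5, 4]

/-- the functionals -/
def aF : Fin 4 → Fin 8 → ℤ := ![![1, 0, 0, 0, 0, -1, 1, -1], ![0, 1, 0, 0, 0, -1, 1, -1], ![0, 0, 1, 0, -1, -1, 2, -1],
  ![0, 0, 0, 1, -1, -1, 1, 0]]
/-- the functionals -/
def bF : Fin 4 → Fin 8 → ℤ := ![![0, 0, 0, 0, 1, -1, 0, 0], ![0, 0, 0, 0, 0, 1, -1, 0], ![0, 0, 0, 0, 1, -1, 1, -2],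
  ![0, 0, 0, 0, 0, 0, 1, -1]]

/-- **`w₀² = -1` in `W(E₈)`.** -/
theorem sqrt_E8 : ∃ (w : M.Group) (V : Subgroup M.Group), (∀ x, rep M.toCoxeterSystem hp.isCartan w
      (rep M.toCoxeterSystem hp.isCartan w x) = -x) ∧ Nat.card V = 5 ∧ (∀ v ∈ V, v * w = w * v) ∧
    (∀ i x, lin (aF i) (rep M.toCoxeterSystem hp.isCartan w x) = -lin (bF i) x) ∧
    ∀ i x, lin (bF i) (rep M.toCoxeterSystem hp.isCartan w x) = lin (aF i) x := by
  set cs := M.toCoxeterSystem
  set c := cs.wordProd L8 with hc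
  have h10 : ∀ x, rep cs hp.isCartan (c ^ 10) x = -x := by
    intro x
    refine eq_of_sr (f := rep cs hp.isCartan (c ^ 10)) (g := -LinearMap.id) (fun i => ?_) x
    rw [hc, rep_word lists_E8 cs hp.isCartan L8 10 i]
    have h : ∀ i : Fin 8, acn alE8 L8 10 (bas 8 i) = (bas 8 i).map (fun a => -1 * a) := by decide +kernel
    rw [h i, toFn_smul, toFn_bas, neg_smul, one_smul]
    rfl
  have h20 : c ^ 20 = 1 := by
    have := word_eq lists_E8 cs hp.isCartan L8 [] 20 1 (by decide +kernel)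
    rwa [cs.wordProd_nil, one_pow] at this
  have h4 : c ^ 4 ≠ 1 := by
    have := word_ne lists_E8 cs hp.isCartan L8 [] 4 1 0 1 (by decide +kernel)
    rwa [pow_one, cs.wordProd_nil] at this
  have : Fact (Nat.Prime 5) := ⟨Nat.prime_five⟩
  obtain ⟨w, hw⟩ : ∃ w, w = c ^ 5 := ⟨_, rfl⟩
  refine ⟨w, Subgroup.zpowers (c ^ 4), fun x => ?_, ?_, ?_, fun i x => ?_, fun i x => ?_⟩
  · rw [hw, ← rep_mul_apply, ← pow_add]
    exact h10 x
  · rw [Nat.card_zpowers]
    exact orderOf_eq_prime (by rw [← pow_mul, h20]) h4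
  · rintro _ ⟨n, rfl⟩
    rw [hw]
    exact (((Commute.refl c).pow_pow 4 5).zpow_left n)
  · refine add_ext (f := (lin (aF i)).comp (rep cs hp.isCartan w).toAddMonoidHom) (g := -lin (bF i))
      (fun j => ?_) x
    show lin (aF i) (rep cs hp.isCartan w (sr j)) = -lin (bF i) (sr j)
    rw [hw, hc, rep_word lists_E8 cs hp.isCartan L8 5 j, sr_eq_toFn]
    have h : ∀ (i : Fin 4) (j : Fin 8), (∑ m, aF i m * toFn 8 (acn alE8 L8 5 (bas 8 j)) m) =
        -∑ m, bF i m * toFn 8 (bas 8 j) m := by decide +kernel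
    exact h i j
  · refine add_ext (f := (lin (bF i)).comp (rep cs hp.isCartan w).toAddMonoidHom) (g := lin (aF i))
      (fun j => ?_) x
    show lin (bF i) (rep cs hp.isCartan w (sr j)) = lin (aF i) (sr j)
    rw [hw, hc, rep_word lists_E8 cs hp.isCartan L8 5 j, sr_eq_toFn]
    have h : ∀ (i : Fin 4) (j : Fin 8), (∑ m, bF i m * toFn 8 (acn alE8 L8 5 (bas 8 j)) m) =
        ∑ m, aF i m * toFn 8 (bas 8 j) m := by decide +kernel
    exact h i j

end E8

end Cfsg.Agent.H900.Fra
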